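import Groth.Agent.TensorPres.Basic

/-!
# Local generators and presentations of tensor products
-/

set_option linter.style.haveILetI false
set_option backward.isDefEq.respectTransparency false
set_option backward.isDefEq.respectTransparency.types false

universe u

open CategoryTheory CategoryTheory.Limits Opposite SheafOfModules

namespace Groth.Agent.TensorPres

open Groth.Agent.ModTensor

variable {C : Type u} [SmallCategory C] {J : GrothendieckTopology C} {O : Sheaf J CommRingCat.{u}}

/-- Restricting further. -/
noncomputable abbrev restrFurther {X₀ : C} (P : Over X₀) :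
    ModSite.Mod (O.over X₀) ⥤ ModSite.Mod (O.over P.left) :=
  ModSite.restr (O.over X₀) P ⋙ (ModFac.iterEquiv O P).inverse

instance preservesColimits_restrFurther {X₀ : C} (P : Over X₀) :
    PreservesColimitsOfSize.{u, u} (restrFurther (O := O) P) := by
  haveI : PreservesColimitsOfSize.{u, u} (ModSite.restr (O.over X₀) P) :=
    ⟨fun {I} _ => ShHomColim.preservesColimitsOfShape_restr (O.over X₀) P I⟩
  haveI : PreservesColimitsOfSize.{u, u} (ModFac.iterEquiv O P).inverse := inferInstance
  infer_instance

/-- The structure sheaf restricted further. -/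
noncomputable def restrFurtherUnit {X₀ : C} (P : Over X₀) :
    ModSite.unit (O.over P.left) ≅ (restrFurther (O := O) P).obj (ModSite.unit (O.over X₀)) :=
  Iso.refl _

/-- Restricting a restriction. -/
noncomputable def restrFurtherIso {X₀ W : C} (g : W ⟶ X₀) (M : ModSite.Mod O) :
    (restrFurther (O := O) (Over.mk g)).obj ((ModSite.restr O X₀).obj M) ≅ (ModSite.restr O W).obj M :=
  (ModFac.iterRestrIso O (Over.mk g)).app M

variable {M N : ModSite.Mod O} {X Y W : C} (g : W ⟶ X) (h : W ⟶ Y)

/-- Generators over a smaller object. -/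
noncomputable def genRestr (G : GeneratingSections.{u} (R := ModSite.ringSh (O.over X)) ((ModSite.restr O X).obj M)) :
    GeneratingSections.{u} (R := ModSite.ringSh (O.over W)) ((ModSite.restr O W).obj M) :=
  (G.map (restrFurther (O := O) (Over.mk g)) (restrFurtherUnit (Over.mk g))).ofEpi (restrFurtherIso g M).hom

/-- A presentation over a smaller object. -/
noncomputable def presRestr (P : Presentation.{u, u, u} (R := ModSite.ringSh (O.over X)) ((ModSite.restr O X).obj M)) :
    Presentation.{u, u, u} (R := ModSite.ringSh (O.over W)) ((ModSite.restr O W).obj M) :=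
  (P.map (restrFurther (O := O) (Over.mk g)) (restrFurtherUnit (Over.mk g))).ofIsIso (restrFurtherIso g M).hom

theorem isFinite_presRestr (P : Presentation.{u, u, u} (R := ModSite.ringSh (O.over X)) ((ModSite.restr O X).obj M))
    [P.IsFinite] : (presRestr g P).IsFinite where
  isFiniteType_generators := ⟨inferInstanceAs (Finite P.generators.I)⟩
  isFiniteType_relations := ⟨inferInstanceAs (Finite P.relations.I)⟩

theorem isIso_genRestr (G : GeneratingSections.{u} (R := ModSite.ringSh (O.over X)) ((ModSite.restr O X).obj M))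
    [IsIso G.π] : IsIso (genRestr g G).π := by
  rw [genRestr, GeneratingSections.ofEpi_π]
  refine IsIso.comp_isIso' ?_ (Iso.isIso_hom _)
  rw [GeneratingSections.map_π_eq]
  exact IsIso.comp_isIso' (Iso.isIso_hom _) (Functor.map_isIso _ _)

/-- Generators of the restriction of a tensor product. -/
noncomputable def genTens (G : GeneratingSections.{u} (R := ModSite.ringSh (O.over X)) ((ModSite.restr O X).obj M))
    (G' : GeneratingSections.{u} (R := ModSite.ringSh (O.over Y)) ((ModSite.restr O Y).obj N)) :
    GeneratingSections.{u} (R := ModSite.ringSh (O.over W)) ((ModSite.restr O W).obj (tens M N)) :=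
  (tensGen (genRestr g G) (genRestr h G')).ofEpi (restrTensorIso O W M N).inv

theorem isIso_genTens (G : GeneratingSections.{u} (R := ModSite.ringSh (O.over X)) ((ModSite.restr O X).obj M))
    (G' : GeneratingSections.{u} (R := ModSite.ringSh (O.over Y)) ((ModSite.restr O Y).obj N))
    [IsIso G.π] [IsIso G'.π] : IsIso (genTens g h G G').π := by
  haveI := isIso_genRestr g G
  haveI := isIso_genRestr h G'
  haveI := isIso_tensGen (genRestr g G) (genRestr h G')
  rw [genTens, GeneratingSections.ofEpi_π]
  exact IsIso.comp_isIso' (isIso_tensGen _ _) (Iso.isIso_inv _)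

/-- A common refinement of two coverings. -/
theorem coversTop_common {ι κ : Type u} {U : ι → C} {V : κ → C} (hU : J.CoversTop U) (hV : J.CoversTop V) :
    J.CoversTop (fun a : (Σ W : C, (Σ i, W ⟶ U i) × (Σ j, W ⟶ V j)) => a.1) := fun Z => by
  refine J.superset_covering (fun Y g hg => ?_) (J.intersection_covering (hU Z) (hV Z))
  obtain ⟨i, ⟨a⟩⟩ := (Sieve.mem_ofObjects_iff ..).1 hg.1
  obtain ⟨j, ⟨b⟩⟩ := (Sieve.mem_ofObjects_iff ..).1 hg.2
  exact (Sieve.mem_ofObjects_iff ..).2 ⟨⟨Y, ⟨i, a⟩, ⟨j, b⟩⟩, ⟨𝟙 Y⟩⟩

variable (M N)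

/-- Local generators of a tensor product. -/
noncomputable def localGenTens (σ : LocalGeneratorsData.{u} (R := ModSite.ringSh O) M)
    (τ : LocalGeneratorsData.{u} (R := ModSite.ringSh O) N) :
    LocalGeneratorsData.{u} (R := ModSite.ringSh O) (tens M N) where
  I := Σ W : C, (Σ i, W ⟶ σ.X i) × (Σ j, W ⟶ τ.X j)
  X a := a.1
  coversTop := coversTop_common σ.coversTop τ.coversTop
  generators a := genTens a.2.1.2 a.2.2.2 (σ.generators a.2.1.1) (τ.generators a.2.2.1)

theorem isFiniteType_tens [SheafOfModules.IsFiniteType (R := ModSite.ringSh O) M]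
    [SheafOfModules.IsFiniteType (R := ModSite.ringSh O) N] :
    SheafOfModules.IsFiniteType (R := ModSite.ringSh O) (tens M N) := by
  obtain ⟨σ, hσ⟩ := SheafOfModules.IsFiniteType.exists_localGeneratorsData (R := ModSite.ringSh O) M
  obtain ⟨τ, hτ⟩ := SheafOfModules.IsFiniteType.exists_localGeneratorsData (R := ModSite.ringSh O) N
  constructor
  refine ⟨localGenTens M N σ τ, ?_⟩
  constructor
  intro a
  constructor
  haveI := (hσ.isFiniteType a.2.1.1).finite
  haveI := (hτ.isFiniteType a.2.2.1).finite
  exact inferInstanceAs (Finite ((σ.generators a.2.1.1).I × (τ.generators a.2.2.1).I))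

theorem isLocallyFree_tens [SheafOfModules.IsLocallyFree (R := ModSite.ringSh O) M]
    [SheafOfModules.IsLocallyFree (R := ModSite.ringSh O) N] :
    SheafOfModules.IsLocallyFree (R := ModSite.ringSh O) (tens M N) := by
  obtain ⟨σ, hσ⟩ := SheafOfModules.IsLocallyFree.exists_isLocallyFreeData (R := ModSite.ringSh O) (M := M)
  obtain ⟨τ, hτ⟩ := SheafOfModules.IsLocallyFree.exists_isLocallyFreeData (R := ModSite.ringSh O) (M := N)
  constructor
  refine ⟨localGenTens M N σ τ, ?_⟩
  constructor
  intro a
  haveI := hσ.isIso a.2.1.1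
  haveI := hτ.isIso a.2.2.1
  exact isIso_genTens _ _ _ _

/-- Quasi-coherent data of a tensor product, finite if both are. -/
theorem exists_qcData_tens (σ : QuasicoherentData.{u} (R := ModSite.ringSh O) M)
    (τ : QuasicoherentData.{u} (R := ModSite.ringSh O) N) :
    ∃ ρ : QuasicoherentData.{u} (R := ModSite.ringSh O) (tens M N),
      σ.IsFinitePresentation → τ.IsFinitePresentation → ρ.IsFinitePresentation := by
  choose Q hQ using fun a : (Σ W : C, (Σ i, W ⟶ σ.X i) × (Σ j, W ⟶ τ.X j)) =>
    exists_tensPres (presRestr a.2.1.2 (σ.presentation a.2.1.1)) (presRestr a.2.2.2 (τ.presentation a.2.2.1))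
  refine ⟨{ I := Σ W : C, (Σ i, W ⟶ σ.X i) × (Σ j, W ⟶ τ.X j)
            X := fun a => a.1
            coversTop := coversTop_common σ.coversTop τ.coversTop
            presentation := fun a => (Q a).ofIsIso (restrTensorIso O a.1 M N).inv }, fun hσ hτ => ?_⟩
  constructor
  intro a
  haveI := hσ.isFinite_presentation a.2.1.1
  haveI := hτ.isFinite_presentation a.2.2.1
  have h := hQ a (isFinite_presRestr _ _) (isFinite_presRestr _ _)
  exact { isFiniteType_generators := ⟨h.isFiniteType_generators.finite⟩
          isFiniteType_relations := ⟨h.isFiniteType_relations.finite⟩ }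

/-- The permanence properties of tensor products. -/
theorem tensor_permanence :
    (Nonempty (LocalGeneratorsData.{u} (R := ModSite.ringSh O) M) →
      Nonempty (LocalGeneratorsData.{u} (R := ModSite.ringSh O) N) →
        Nonempty (LocalGeneratorsData.{u} (R := ModSite.ringSh O) (tens M N))) ∧
    (SheafOfModules.IsFiniteType (R := ModSite.ringSh O) M → SheafOfModules.IsFiniteType (R := ModSite.ringSh O) N →
      SheafOfModules.IsFiniteType (R := ModSite.ringSh O) (tens M N)) ∧
    (SheafOfModules.IsQuasicoherent (R := ModSite.ringSh O) M →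
      SheafOfModules.IsQuasicoherent (R := ModSite.ringSh O) N →
        SheafOfModules.IsQuasicoherent (R := ModSite.ringSh O) (tens M N)) ∧
    (SheafOfModules.IsFinitePresentation (R := ModSite.ringSh O) M →
      SheafOfModules.IsFinitePresentation (R := ModSite.ringSh O) N →
        SheafOfModules.IsFinitePresentation (R := ModSite.ringSh O) (tens M N)) ∧
    (SheafOfModules.IsLocallyFree (R := ModSite.ringSh O) M → SheafOfModules.IsLocallyFree (R := ModSite.ringSh O) N →
      SheafOfModules.IsLocallyFree (R := ModSite.ringSh O) (tens M N)) := by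
  refine ⟨fun ⟨σ⟩ ⟨τ⟩ => ⟨localGenTens M N σ τ⟩, fun _ _ => isFiniteType_tens M N, fun h h' => ?_, fun h h' => ?_,
    fun _ _ => isLocallyFree_tens M N⟩
  · obtain ⟨σ⟩ := h.nonempty_quasicoherentData
    obtain ⟨τ⟩ := h'.nonempty_quasicoherentData
    constructor
    exact ⟨(exists_qcData_tens M N σ τ).choose⟩
  · obtain ⟨σ, hσ⟩ := SheafOfModules.IsFinitePresentation.exists_quasicoherentData (R := ModSite.ringSh O) M
    obtain ⟨τ, hτ⟩ := SheafOfModules.IsFinitePresentation.exists_quasicoherentData (R := ModSite.ringSh O) N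
    obtain ⟨ρ, hρ⟩ := exists_qcData_tens M N σ τ
    constructor
    exact ⟨ρ, hρ hσ hτ⟩

end Groth.Agent.TensorPres
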