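import Groth.Agent.ModFac.Main
import Groth.Agent.ModTensor.ProjSheaf
import Groth.Agent.ShHomColim.Basic
import Mathlib.Algebra.Category.ModuleCat.Sheaf.LocallyFree

/-!
# Generators and presentations of tensor products of sheaves of modules
-/

set_option linter.style.haveILetI false
set_option backward.isDefEq.respectTransparency false
set_option backward.isDefEq.respectTransparency.types false

universe u

open CategoryTheory CategoryTheory.Limits Opposite SheafOfModules

namespace Groth.Agent.TensorPres

open Groth.Agent.ModTensor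

variable {C : Type u} [SmallCategory C] {J : GrothendieckTopology C} {O : Sheaf J CommRingCat.{u}}

/-- The tensor product of two modules. -/
noncomputable abbrev tens (M N : ModSite.Mod O) : ModSite.Mod O := ((ModSite.tensorBi O).obj M).obj N

/-- The tensor product of two maps. -/
noncomputable abbrev tmap {M M' N N' : ModSite.Mod O} (f : M ⟶ M') (g : N ⟶ N') : tens M N ⟶ tens M' N' :=
  ((ModSite.tensorBi O).map f).app N ≫ ((ModSite.tensorBi O).obj M').map g

/-- The structure sheaf tensored with a module. -/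
noncomputable abbrev lam (M : ModSite.Mod O) : tens (ModSite.unit O) M ≅ M := (unitTensorIso O).app M

variable (O) in
/-- The pair of generators. -/
noncomputable def pairGen {I J' : Type u} (i : I) (j : J') :
    ModSite.unit O ⟶ tens (free (R := ModSite.ringSh O) I) (free J') :=
  ιFree j ≫ (lam (free J')).inv ≫ ((ModSite.tensorBi O).map (ιFree i)).app (free J')

variable (O) in
/-- The free module on pairs maps to the tensor product. -/
noncomputable def freeProdHom (I J' : Type u) :
    free (R := ModSite.ringSh O) (I × J') ⟶ tens (free I) (free J') :=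
  Cofan.IsColimit.desc (isColimitFreeCofan (I × J')) fun p => pairGen O p.1 p.2

lemma ιFree_freeProdHom {I J' : Type u} (p : I × J') : ιFree p ≫ freeProdHom O I J' = pairGen O p.1 p.2 :=
  Cofan.IsColimit.fac (isColimitFreeCofan (I × J')) _ p

/-- Tensor products of free modules are free. -/
instance isIso_freeProdHom (I J' : Type u) : IsIso (freeProdHom O I J') := by
  let F := (ModSite.tensorBi O).flip.obj (free J')
  have hc : IsColimit (Cofan.mk (tens (free (R := ModSite.ringSh O) I) (free J'))
      fun i => ((ModSite.tensorBi O).map (ιFree i)).app (free J')) :=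
    isColimitCofanMkObjOfIsColimit F (fun _ : I => ModSite.unit O) (fun i => ιFree i) (isColimitFreeCofan (R := ModSite.ringSh O) I)
  obtain ⟨row, hrow⟩ : ∃ row : I → (free (R := ModSite.ringSh O) J' ⟶ free (I × J')),
      ∀ i j, ιFree j ≫ row i = ιFree (i, j) :=
    ⟨fun i => Cofan.IsColimit.desc (isColimitFreeCofan J') fun j => ιFree (i, j),
      fun i j => Cofan.IsColimit.fac (isColimitFreeCofan J') _ j⟩
  obtain ⟨d, hd⟩ : ∃ d : tens (free I) (free J') ⟶ free (R := ModSite.ringSh O) (I × J'),
      ∀ i, ((ModSite.tensorBi O).map (ιFree i)).app (free J') ≫ d = (lam (free J')).hom ≫ row i :=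
    ⟨Cofan.IsColimit.desc hc fun i => (lam (free J')).hom ≫ row i, fun i => Cofan.IsColimit.fac hc _ i⟩
  refine ⟨d, ?_, ?_⟩
  · refine Cofan.IsColimit.hom_ext (isColimitFreeCofan (I × J')) _ _ fun p => ?_
    show ιFree p ≫ freeProdHom O I J' ≫ d = ιFree p ≫ 𝟙 _
    rw [← Category.assoc, ιFree_freeProdHom, Category.comp_id, pairGen, Category.assoc, Category.assoc, hd,
      Iso.inv_hom_id_assoc, hrow]
  · refine Cofan.IsColimit.hom_ext hc _ _ fun i => ?_
    show ((ModSite.tensorBi O).map (ιFree i)).app (free J') ≫ d ≫ freeProdHom O I J' =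
      ((ModSite.tensorBi O).map (ιFree i)).app (free J') ≫ 𝟙 _
    rw [← Category.assoc, hd, Category.comp_id, Category.assoc, ← cancel_epi (lam (free J')).inv,
      Iso.inv_hom_id_assoc]
    refine Cofan.IsColimit.hom_ext (isColimitFreeCofan J') _ _ fun j => ?_
    show ιFree j ≫ row i ≫ freeProdHom O I J' = _
    rw [← Category.assoc, hrow, ιFree_freeProdHom]
    rfl

theorem epi_tmap {M M' N N' : ModSite.Mod O} (f : M ⟶ M') (g : N ⟶ N') [Epi f] [Epi g] : Epi (tmap f g) := by
  haveI := ShHomColim.preservesFiniteColimits_tensorBi_obj O M'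
  haveI : Epi (((ModSite.tensorBi O).map f).app N) := by
    show Epi (((ModSite.tensorBi O).flip.obj N).map f)
    haveI : PreservesColimitsOfSize.{0, 0} ((ModSite.tensorBi O).flip.obj N) :=
      preservesColimitsOfSize_shrink.{0, u, 0, u} _
    infer_instance
  exact epi_comp _ _

/-- The tensor product of two cokernels. -/
theorem exists_cokernel {Q P M Q' P' M' : ModSite.Mod O} {f : Q ⟶ P} {π : P ⟶ M} (w : f ≫ π = 0)
    (hc : IsColimit (CokernelCofork.ofπ π w)) {f' : Q' ⟶ P'} {π' : P' ⟶ M'} (w' : f' ≫ π' = 0)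
    (hc' : IsColimit (CokernelCofork.ofπ π' w')) :
    tmap f (𝟙 P') ≫ tmap π π' = 0 ∧ tmap (𝟙 P) f' ≫ tmap π π' = 0 ∧
      ∀ {Z : ModSite.Mod O} (φ : tens P P' ⟶ Z), tmap f (𝟙 P') ≫ φ = 0 → tmap (𝟙 P) f' ≫ φ = 0 →
        ∃ d : tens M M' ⟶ Z, tmap π π' ≫ d = φ := by
  haveI hfl : ∀ N, PreservesColimitsOfSize.{0, 0} ((ModSite.tensorBi O).flip.obj N) :=
    fun N => preservesColimitsOfSize_shrink.{0, u, 0, u} _
  haveI hr : ∀ N, PreservesColimitsOfSize.{0, 0} ((ModSite.tensorBi O).obj N) :=
    fun N => preservesColimitsOfSize_shrink.{0, u, 0, u} _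
  haveI : ∀ Z, ((ModSite.tensorBi O).obj Z).Additive := fun Z => Functor.additive_of_iso ((tensorFlipIso O).app Z)
  haveI : Epi π := Cofork.IsColimit.epi hc
  have h1 : tmap f (𝟙 P') ≫ tmap π π' = 0 := by
    simp only [tmap, CategoryTheory.Functor.map_id, Category.comp_id]
    rw [← Category.assoc]
    have e : ((ModSite.tensorBi O).map f).app P' ≫ ((ModSite.tensorBi O).map π).app P' = 0 := by
      show ((ModSite.tensorBi O).flip.obj P').map f ≫ ((ModSite.tensorBi O).flip.obj P').map π = 0
      rw [← Functor.map_comp, w, Functor.map_zero]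
    rw [e, zero_comp]
  have h2 : tmap (𝟙 P) f' ≫ tmap π π' = 0 := by
    simp only [tmap, CategoryTheory.Functor.map_id, NatTrans.id_app, Category.id_comp]
    rw [← Category.assoc, NatTrans.naturality, Category.assoc, ← Functor.map_comp, w', Functor.map_zero, comp_zero]
  refine ⟨h1, h2, fun {Z} φ hφ hφ' => ?_⟩
  let hL := CokernelCofork.mapIsColimit _ hc ((ModSite.tensorBi O).flip.obj P')
  obtain ⟨d₁, hd₁⟩ := CokernelCofork.IsColimit.desc' hL φ (by
    simpa [tmap] using hφ)
  let hR := CokernelCofork.mapIsColimit _ hc' ((ModSite.tensorBi O).obj M)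
  have hd₁' : ((ModSite.tensorBi O).map π).app P' ≫ d₁ = φ := hd₁
  haveI : Epi (((ModSite.tensorBi O).map π).app Q') :=
    inferInstanceAs (Epi (((ModSite.tensorBi O).flip.obj Q').map π))
  obtain ⟨d, hd⟩ := CokernelCofork.IsColimit.desc' hR d₁ (by
    refine (cancel_epi (((ModSite.tensorBi O).map π).app Q')).1 ?_
    refine (Category.assoc _ _ _).symm.trans ((congrArg (· ≫ d₁) (((ModSite.tensorBi O).map π).naturality f').symm).trans ?_)
    refine (Category.assoc _ _ _).trans ((congrArg (_ ≫ ·) hd₁').trans ?_)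
    rw [comp_zero]
    simpa [tmap] using hφ')
  exact ⟨d, by rw [Category.assoc]; exact (congrArg (_ ≫ ·) hd).trans hd₁'⟩

/-- Generators of a tensor product. -/
noncomputable def tensGen {M N : ModSite.Mod O} (g : GeneratingSections.{u} (R := ModSite.ringSh O) M)
    (g' : GeneratingSections.{u} (R := ModSite.ringSh O) N) : GeneratingSections.{u} (R := ModSite.ringSh O) (tens M N) where
  I := g.I × g'.I
  s := freeHomEquiv _ (freeProdHom O g.I g'.I ≫ tmap g.π g'.π)
  epi := by
    rw [Equiv.symm_apply_apply]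
    haveI := epi_tmap g.π g'.π
    exact epi_comp _ _

lemma tensGen_π {M N : ModSite.Mod O} (g : GeneratingSections.{u} (R := ModSite.ringSh O) M)
    (g' : GeneratingSections.{u} (R := ModSite.ringSh O) N) :
    (tensGen g g').π = freeProdHom O g.I g'.I ≫ tmap g.π g'.π :=
  (freeHomEquiv _).symm_apply_apply _

theorem isIso_tensGen {M N : ModSite.Mod O} (g : GeneratingSections.{u} (R := ModSite.ringSh O) M)
    (g' : GeneratingSections.{u} (R := ModSite.ringSh O) N) [IsIso g.π] [IsIso g'.π] :
    IsIso (tensGen g g').π := by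
  rw [tensGen_π]
  haveI : IsIso (tmap g.π g'.π) := inferInstance
  infer_instance

theorem kill_of_comp {A : Type*} [Category A] [HasZeroMorphisms A] {P₁ T₁ T₀ P₀ Z : A} (p : P₁ ⟶ T₁) [IsIso p]
    (t : T₁ ⟶ T₀) (q : P₀ ⟶ T₀) [IsIso q] (s : P₀ ⟶ Z) (h : (p ≫ t ≫ inv q) ≫ s = 0) :
    t ≫ inv q ≫ s = 0 := by
  rw [← cancel_epi p, comp_zero]
  simpa using h

set_option maxHeartbeats 800000 in
/-- A presentation of a tensor product. -/
theorem exists_tensPres {M N : ModSite.Mod O} (P : Presentation.{u, u, u} M) (P' : Presentation.{u, u, u} N) :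
    ∃ Q : Presentation.{u, u, u} (tens M N),
      (P.IsFinite → P'.IsFinite → Q.IsFinite) := by
  let f := ModFac.presMap P
  let f' := ModFac.presMap P'
  obtain ⟨h1, h2, hdesc⟩ := exists_cokernel (ModFac.presMap_π P) P.isColimit (ModFac.presMap_π P') P'.isColimit
  let a := freeProdHom O P.relations.I P'.generators.I ≫ tmap f (𝟙 _) ≫ inv (freeProdHom O P.generators.I P'.generators.I)
  let b := freeProdHom O P.generators.I P'.relations.I ≫ tmap (𝟙 _) f' ≫ inv (freeProdHom O P.generators.I P'.generators.I)
  let F : free (R := ModSite.ringSh O) (P.relations.I × P'.generators.I ⊕ P.generators.I × P'.relations.I) ⟶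
      free (P.generators.I × P'.generators.I) :=
    Cofan.IsColimit.desc (isColimitFreeCofan _) (Sum.elim (fun x => ιFree x ≫ a) (fun y => ιFree y ≫ b))
  let G := freeProdHom O P.generators.I P'.generators.I ≫ tmap P.generators.π P'.generators.π
  have hF1 : ∀ x, ιFree (Sum.inl x) ≫ F = ιFree x ≫ a := fun x => Cofan.IsColimit.fac (isColimitFreeCofan _) _ _
  have hF2 : ∀ y, ιFree (Sum.inr y) ≫ F = ιFree y ≫ b := fun y => Cofan.IsColimit.fac (isColimitFreeCofan _) _ _
  have H : F ≫ G = 0 := by
    refine Cofan.IsColimit.hom_ext (isColimitFreeCofan _) _ _ fun z => ?_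
    show ιFree z ≫ _ = ιFree z ≫ _
    rw [comp_zero, ← Category.assoc]
    rcases z with x | y
    · rw [hF1]
      have h1' := congrArg (fun t => ιFree x ≫ freeProdHom O P.relations.I P'.generators.I ≫ t) h1
      simpa [a, G, f, tmap] using h1'
    · rw [hF2]
      have h2' := congrArg (fun t => ιFree y ≫ freeProdHom O P.generators.I P'.relations.I ≫ t) h2
      simpa [b, G, f', tmap] using h2'
  have hepi : Epi G := by
    haveI := epi_tmap P.generators.π P'.generators.π
    exact epi_comp _ _
  have hsum : ∀ {Z : ModSite.Mod O} (t : free (P.generators.I × P'.generators.I) ⟶ Z), F ≫ t = 0 →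
      a ≫ t = 0 ∧ b ≫ t = 0 := fun {Z} t ht => by
    constructor
    · refine Cofan.IsColimit.hom_ext (isColimitFreeCofan _) _ _ fun x => ?_
      show ιFree x ≫ a ≫ t = ιFree x ≫ 0
      rw [← Category.assoc, ← hF1, Category.assoc, ht, comp_zero, comp_zero]
    · refine Cofan.IsColimit.hom_ext (isColimitFreeCofan _) _ _ fun x => ?_
      show ιFree x ≫ b ≫ t = ιFree x ≫ 0
      rw [← Category.assoc, ← hF2, Category.assoc, ht, comp_zero, comp_zero]
  have hex : ∀ (s : CokernelCofork F), ∃ d, G ≫ d = s.π := fun s => by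
    let φ := inv (freeProdHom O P.generators.I P'.generators.I) ≫ s.π
    have hs : F ≫ s.π = 0 := CokernelCofork.condition s
    obtain ⟨ha, hb⟩ := hsum _ hs
    obtain ⟨d, hd⟩ := hdesc φ (kill_of_comp _ _ _ _ ha) (kill_of_comp _ _ _ _ hb)
    exact ⟨d, by simp only [G, Category.assoc, hd, φ, IsIso.hom_inv_id_assoc]⟩
  choose d hd using hex
  refine ⟨presentationOfIsCokernelFree F G H (Cofork.IsColimit.mk _ d hd fun s m hm => by
    refine (cancel_epi G).1 ?_
    exact hm.trans (hd s).symm), fun h h' => ?_⟩
  haveI := h.isFiniteType_generators.finite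
  haveI := h.isFiniteType_relations.finite
  haveI := h'.isFiniteType_generators.finite
  haveI := h'.isFiniteType_relations.finite
  exact { isFiniteType_generators := ⟨inferInstanceAs (Finite (P.generators.I × P'.generators.I))⟩
          isFiniteType_relations :=
            ⟨inferInstanceAs (Finite (P.relations.I × P'.generators.I ⊕ P.generators.I × P'.relations.I))⟩ }

end Groth.Agent.TensorPres
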